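import Groth.Agent.CohTop.K93.ClosedRow
set_option autoImplicit false
set_option backward.isDefEq.respectTransparency false
set_option backward.isDefEq.respectTransparency.types false

set_option maxHeartbeats 400000

universe u

open CategoryTheory CategoryTheory.Limits Opposite TopologicalSpace

namespace K93.ClosedRow

open K781.Desc K781.God K781.Fib K93.ExTools

variable {X : TopCat.{u}} {I : Type u} {U : I → Set X}

lemma exists_small (hU : ∀ i, IsClosed (U i)) (hlf : LocallyFinite U) (x : X) :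
    ∃ O : Opens X, x ∈ O ∧ ∀ i, ∀ y ∈ O, y ∈ U i → x ∈ U i := by
  have h := hlf.iInter_compl_mem_nhds hU x
  obtain ⟨O, hO, hO', hx⟩ := mem_nhds_iff.1 h
  refine ⟨⟨O, hO'⟩, hx, fun i y hy hyi => ?_⟩
  by_contra hxi
  exact Set.mem_iInter₂.1 (hO hy) i hxi hyi

lemma exists_inf {J : Type*} [Finite J] {x : X} (O : J → Opens X) (hO : ∀ j, x ∈ O j) (O₀ : Opens X)
    (h₀ : x ∈ O₀) : ∃ O' : Opens X, x ∈ O' ∧ O' ≤ O₀ ∧ ∀ j, O' ≤ O j :=
  ⟨O₀ ⊓ ⟨⋂ j, O j, isOpen_iInter_of_finite fun j => (O j).2⟩, ⟨h₀, Set.mem_iInter.2 hO⟩, inf_le_left,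
    fun j _ hy => Set.mem_iInter.1 hy.2 j⟩

lemma exists_over {V : Type} (σ : V → I) (W : Opens (Ts U σ).left) : ∃ O : Opens X, over (Ts U σ) O = W := by
  obtain ⟨O, hO, h⟩ := isOpen_induced_iff.1 W.2
  exact ⟨⟨O, hO⟩, Opens.ext h⟩

lemma finite_sub (hlf : LocallyFinite U) (x : X) (V : Type) [Finite V] :
    Finite {σ : V → I // x ∈ (⋂ k, U (σ k) : Set X)} := by
  have := (hlf.point_finite x).to_subtype
  refine Finite.of_injective
    (fun σ (v : V) => (⟨σ.1 v, Set.mem_iInter.1 σ.2 v⟩ : {b | x ∈ U b})) (fun σ τ h => ?_)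
  apply Subtype.ext
  funext v
  exact congr_arg Subtype.val (congr_fun h v)

variable (Q : (Over X)ᵒᵖ ⥤ AddCommGrpCat.{u})

lemma subsingleton_god {T : Over X} (h : IsEmpty T.left) : Subsingleton ((God Q).obj (op T)) :=
  ⟨fun a b => funext fun t : T.left => (h.false t).elim⟩

theorem stEx_god (hU : ∀ i, IsClosed (U i)) (hlf : LocallyFinite U) (h : StEx U Q) : StEx U (God Q) := by
  classical
  intro x
  obtain ⟨O₀, hx₀, hs⟩ := exists_small hU hlf x
  refine ex_of_directed (ι := {O : Opens X // x ∈ O ∧ O ≤ O₀}) (fun O => vt ⋙ R U (QO (God Q) O.1))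
    (fun O => Functor.whiskerLeft vt (Rgerm U (God Q) x O.1 O.2.1)) (fun O => ex_godO U Q h O.1) ?_ ?_
  · intro y a
    have hf := finite_sub hlf x (ob 0 ⟶ y)
    choose W hW b hb using fun σ : {σ : (ob 0 ⟶ y) → I // x ∈ (⋂ k, U (σ k) : Set X)} =>
      exists_gm (God Q) ((a : ∀ σ : {σ : (ob 0 ⟶ y) → I // x ∈ (⋂ k, U (σ k) : Set X)},
        st (God Q) (Ts U σ.1) ⟨x, σ.2⟩) σ)
    choose O hO using fun σ => exists_over σ.1 (W σ)
    obtain ⟨O', hx', hO', hO''⟩ := exists_inf O (fun σ => by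
      have := hW σ
      rw [← hO σ] at this
      exact this) O₀ hx₀
    have hle : ∀ σ, over (Ts U σ.1) O' ≤ W σ := fun σ => by
      rw [← hO σ]
      exact fun t ht => hO'' σ ht
    refine ⟨⟨O', hx', hO'⟩, (fun σ => if hσ : x ∈ (⋂ k, U (σ k) : Set X) then
      ((God Q).map (subMap (Ts U σ) (hle ⟨σ, hσ⟩)).op (b ⟨σ, hσ⟩) :
        (God Q).obj (op (sub (Ts U σ) (over (Ts U σ) O')))) else 0 :
      ∀ σ : (ob 0 ⟶ y) → I, (God Q).obj (op (sub (Ts U σ) (over (Ts U σ) O')))), ?_⟩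
    refine funext fun σ => ?_
    change gm (God Q) (Ts U σ.1) ⟨x, σ.2⟩ (over (Ts U σ.1) O') hx' (dite _ _ _) = a σ
    rw [dif_pos σ.2, gm_res]
    exact hb σ
  · intro y O b hb
    have hf := finite_sub hlf x (ob 0 ⟶ y)
    choose W hW hWO e using fun σ : {σ : (ob 0 ⟶ y) → I // x ∈ (⋂ k, U (σ k) : Set X)} =>
      gm_eq_zero (God Q) (T := Ts U σ.1) (t := ⟨x, σ.2⟩) (U := over (Ts U σ.1) O.1) O.2.1
        ((b : ∀ σ : (ob 0 ⟶ y) → I, (God Q).obj (op (sub (Ts U σ) (over (Ts U σ) O.1)))) σ.1) (congr_fun hb σ)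
    choose O₁ hO₁ using fun σ => exists_over σ.1 (W σ)
    obtain ⟨O', hx', hO', hO''⟩ := exists_inf O₁ (fun σ => by
      have := hW σ
      rw [← hO₁ σ] at this
      exact this) O.1 O.2.1
    have hle : ∀ σ, over (Ts U σ.1) O' ≤ W σ := fun σ => by
      rw [← hO₁ σ]
      exact fun t ht => hO'' σ ht
    refine ⟨⟨O', hx', hO'.trans O.2.2⟩, Functor.whiskerLeft vt (Rres U (God Q) hO'), ?_, ?_⟩
    · rw [← Functor.whiskerLeft_comp, Rres_Rgerm]
    · refine funext fun σ => ?_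
      change (God Q).map (subMap (Ts U σ) _).op (b σ) = 0
      by_cases hσ : x ∈ (⋂ k, U (σ k) : Set X)
      · have h1 := mm' (God Q) (subMap (Ts U σ) (hle ⟨σ, hσ⟩)) (subMap (Ts U σ) (hWO ⟨σ, hσ⟩))
          (subMap (Ts U σ) (show over (Ts U σ) O' ≤ over (Ts U σ) O.1 from fun _ hx => hO' hx))
          (sub_hom_ext (by simp)) (b σ)
        rw [e ⟨σ, hσ⟩, map_zero] at h1
        exact h1.symm
      · have : Subsingleton ((God Q).obj (op (sub (Ts U σ) (over (Ts U σ) O')))) :=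
          subsingleton_god Q ⟨fun t => hσ (Set.mem_iInter.2 fun k =>
            hs (σ k) t.1.1 (O.2.2 (hO' t.2)) (Set.mem_iInter.1 t.1.2 k))⟩
        exact Subsingleton.elim _ _

end K93.ClosedRow
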