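import Groth.Agent.CohTop.K93.ExTools
import Groth.Agent.FibDesc.K781.Defs3
import Groth.Agent.FibDesc.K781.Res

/-!
# Rows of the Godement complex for a locally finite closed covering
-/

set_option autoImplicit false
set_option backward.isDefEq.respectTransparency false
set_option backward.isDefEq.respectTransparency.types false

set_option maxHeartbeats 400000

universe u

open CategoryTheory CategoryTheory.Limits Opposite TopologicalSpace

namespace K93.ClosedRow

open K781.Desc K781.God K781.Fib K93.ExTools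

variable {X : TopCat.{u}} {I : Type u} (U : I → Set X)

/-- The intersection of a family of members of the covering, as a space over `X`. -/
def Ts {V : Type} (σ : V → I) : Over X :=
  Over.mk (TopCat.ofHom ⟨((↑) : (⋂ k, U (σ k) : Set X) → X), continuous_subtype_val⟩ :
    TopCat.of (⋂ k, U (σ k) : Set X) ⟶ X)

/-- Reindexing. -/
abbrev pb {V W : Type} (f : V ⟶ W) (σ : W → I) : V → I := fun v => σ (f v)

lemma mem_pb {V W : Type} (f : V ⟶ W) (σ : W → I) {x : X} (hx : x ∈ (⋂ k, U (σ k) : Set X)) :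
    x ∈ (⋂ k, U (pb f σ k) : Set X) :=
  Set.mem_iInter.2 fun v => Set.mem_iInter.1 hx (f v)

/-- The inclusion of intersections. -/
def Tmap {V W : Type} (f : V ⟶ W) (σ : W → I) : Ts U σ ⟶ Ts U (pb f σ) :=
  Over.homMk (TopCat.ofHom ⟨fun x => ⟨x.1, mem_pb U f σ x.2⟩,
    Continuous.subtype_mk continuous_subtype_val _⟩) rfl

/-- The product of the sections over the intersections. -/
noncomputable def R (Q : (Over X)ᵒᵖ ⥤ AddCommGrpCat.{u}) : Type ⥤ AddCommGrpCat.{u} where
  obj V := AddCommGrpCat.of (∀ σ : V → I, Q.obj (op (Ts U σ)))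
  map {V W} f := AddCommGrpCat.ofHom (AddMonoidHom.mk'
    (fun (a : ∀ σ : V → I, Q.obj (op (Ts U σ))) (σ : W → I) => Q.map (Tmap U f σ).op (a (pb f σ)))
    (fun a b => by
      funext σ
      exact map_add _ _ _))
  map_id V := by
    ext a σ
    exact m1 Q (Tmap U (𝟙 V) σ) rfl (a σ)
  map_comp {V W Z} f g := by
    ext a σ
    exact (mm' Q (Tmap U g σ) (Tmap U f (pb g σ)) (Tmap U (f ≫ g) σ) rfl _).symm

/-- The product of the stalks at `x` over the intersections containing `x`. -/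
noncomputable def Sx (Q : (Over X)ᵒᵖ ⥤ AddCommGrpCat.{u}) (x : X) : Type ⥤ AddCommGrpCat.{u} where
  obj V := AddCommGrpCat.of (∀ σ : {σ : V → I // x ∈ (⋂ k, U (σ k) : Set X)}, st Q (Ts U σ.1) ⟨x, σ.2⟩)
  map {V W} f := AddCommGrpCat.ofHom (AddMonoidHom.mk'
    (fun (a : ∀ σ : {σ : V → I // x ∈ (⋂ k, U (σ k) : Set X)}, st Q (Ts U σ.1) ⟨x, σ.2⟩)
      (σ : {σ : W → I // x ∈ (⋂ k, U (σ k) : Set X)}) =>
        stRes Q (Tmap U f σ.1) ⟨x, σ.2⟩ (a ⟨pb f σ.1, mem_pb U f σ.1 σ.2⟩))
    (fun a b => by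
      funext σ
      exact map_add _ _ _))
  map_id V := by
    ext a σ
    exact stRes_id Q (T := Ts U σ.1) ⟨x, σ.2⟩ (a σ)
  map_comp {V W Z} f g := by
    ext a σ
    exact stRes_comp Q (Tmap U g σ.1) (Tmap U f (pb g σ.1)) ⟨x, σ.2⟩ _

/-- `U ↦ Q(T ∩ O)`. -/
noncomputable def ovO (O : Opens X) : Over X ⥤ Over X where
  obj T := sub T (over T O)
  map {T T'} h := subRes h (over T O) (over T' O) (mem_over_of h O)
  map_id T := sub_hom_ext (by simp)
  map_comp f g := sub_hom_ext (by simp)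

/-- The restriction of a presheaf to `O`. -/
noncomputable abbrev QO (Q : (Over X)ᵒᵖ ⥤ AddCommGrpCat.{u}) (O : Opens X) : (Over X)ᵒᵖ ⥤ AddCommGrpCat.{u} :=
  (ovO O).op ⋙ Q

variable (Q : (Over X)ᵒᵖ ⥤ AddCommGrpCat.{u})

lemma RresAux {V W : Type} (f : V ⟶ W) (σ : W → I) {O O' : Opens X} (h : O' ≤ O)
    (a : Q.obj (op (sub (Ts U (pb f σ)) (over (Ts U (pb f σ)) O)))) :
    Q.map (subMap (Ts U σ) (show over (Ts U σ) O' ≤ over (Ts U σ) O from fun _ hx => h hx)).op
      (Q.map (subRes (Tmap U f σ) (over (Ts U σ) O) (over (Ts U (pb f σ)) O) (mem_over_of _ O)).op a) =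
    Q.map (subRes (Tmap U f σ) (over (Ts U σ) O') (over (Ts U (pb f σ)) O') (mem_over_of _ O')).op
      (Q.map (subMap (Ts U (pb f σ)) (show over (Ts U (pb f σ)) O' ≤ over (Ts U (pb f σ)) O from
        fun _ hx => h hx)).op a) := by
  rw [mm, mm]
  congr 3

/-- Functoriality in `O`. -/
noncomputable def Rres {O O' : Opens X} (h : O' ≤ O) : R U (QO Q O) ⟶ R U (QO Q O') where
  app V := AddCommGrpCat.ofHom (AddMonoidHom.mk'
    (fun (a : ∀ σ : V → I, Q.obj (op (sub (Ts U σ) (over (Ts U σ) O)))) (σ : V → I) =>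
      (Q.map (subMap (Ts U σ) (show over (Ts U σ) O' ≤ over (Ts U σ) O from fun _ hx => h hx)).op (a σ) :
        Q.obj (op (sub (Ts U σ) (over (Ts U σ) O')))))
    (fun a b => by
      funext σ
      exact map_add _ _ _))
  naturality {V W} f := by
    refine AddCommGrpCat.hom_ext (AddMonoidHom.ext fun a => funext fun σ => ?_)
    exact RresAux U Q f σ h (a (pb f σ))

/-- Taking germs. -/
noncomputable def Rgerm (x : X) (O : Opens X) (hx : x ∈ O) : R U (QO Q O) ⟶ Sx U Q x where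
  app V := AddCommGrpCat.ofHom (AddMonoidHom.mk'
    (fun (a : ∀ σ : V → I, Q.obj (op (sub (Ts U σ) (over (Ts U σ) O))))
      (σ : {σ : V → I // x ∈ (⋂ k, U (σ k) : Set X)}) =>
      gm Q (Ts U σ.1) ⟨x, σ.2⟩ (over (Ts U σ.1) O) hx (a σ.1))
    (fun a b => by
      funext σ
      exact map_add _ _ _))
  naturality {V W} f := by
    refine AddCommGrpCat.hom_ext (AddMonoidHom.ext fun a => funext fun σ => ?_)
    exact (stRes_gm Q (Tmap U f σ.1) ⟨x, σ.2⟩ (over (Ts U (pb f σ.1)) O) hx (over (Ts U σ.1) O) hx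
      (mem_over_of (Tmap U f σ.1) O) _).symm

lemma Rres_Rgerm (x : X) {O O' : Opens X} (h : O' ≤ O) (hx : x ∈ O') :
    Rres U Q h ≫ Rgerm U Q x O' hx = Rgerm U Q x O (h hx) := by
  ext V a
  funext σ
  exact gm_res Q (show over (Ts U σ.1) O' ≤ over (Ts U σ.1) O from fun _ hx => h hx) hx (a σ.1)

lemma godAux {T T' : Over X} (h : T' ⟶ T) (O : Opens X) (t : (sub T' (over T' O)).left)
    (b : st Q T (h.left ((subι T' (over T' O)).left t))) :
    stRes Q (subι T' (over T' O)) t (stRes Q h ((subι T' (over T' O)).left t) b) =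
      stRes Q (subRes h (over T' O) (over T O) (mem_over_of h O)) t
        (stRes Q (subι T (over T O)) ((subRes h (over T' O) (over T O) (mem_over_of h O)).left t) b) := by
  rw [← stRes_comp, ← stRes_comp]
  exact stRes_congr Q (subRes_ι h (over T' O) (over T O) (mem_over_of h O)).symm t _ _ HEq.rfl

/-- The sections of the Godement presheaf are products of stalks. -/
noncomputable def godO (O : Opens X) : (piF fun x : O => Sx U Q x.1) ⟶ R U (QO (God Q) O) where
  app V := AddCommGrpCat.ofHom (AddMonoidHom.mk'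
    (fun (b : ∀ x : O, ∀ σ : {σ : V → I // x.1 ∈ (⋂ k, U (σ k) : Set X)}, st Q (Ts U σ.1) ⟨x, σ.2⟩)
      (σ : V → I) =>
      ((fun t => stRes Q (subι (Ts U σ) (over (Ts U σ) O)) t (b ⟨t.1.1, t.2⟩ ⟨σ, t.1.2⟩)) :
        ∀ t : (sub (Ts U σ) (over (Ts U σ) O)).left, st Q (sub (Ts U σ) (over (Ts U σ) O)) t))
    (fun a b => by
      funext σ
      funext t
      exact map_add _ _ _))
  naturality {V W} f := by
    refine AddCommGrpCat.hom_ext (AddMonoidHom.ext fun b => funext fun σ => funext fun t => ?_)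
    exact godAux Q (Tmap U f σ) O t (b ⟨t.1.1, t.2⟩ ⟨pb f σ, mem_pb U f σ t.1.2⟩)


lemma isIso_godO (O : Opens X) : IsIso (godO U Q O) := by
  have : ∀ V, IsIso ((godO U Q O).app V) := by
    intro V
    rw [ConcreteCategory.isIso_iff_bijective]
    constructor
    · rw [injective_iff_map_eq_zero]
      intro b hb
      funext x
      funext σ
      exact stRes_injective Q (Ts U σ.1) (over (Ts U σ.1) O) (⟨⟨x.1, σ.2⟩, x.2⟩ : (over (Ts U σ.1) O)) _
        (congr_fun (congr_fun hb σ.1) ⟨⟨x.1, σ.2⟩, x.2⟩)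
    · intro b
      choose a ha using fun (σ : V → I) (t : (sub (Ts U σ) (over (Ts U σ) O)).left) =>
        stRes_surjective Q (Ts U σ) (over (Ts U σ) O) t
          ((b : ∀ (σ : V → I) (t : (sub (Ts U σ) (over (Ts U σ) O)).left),
            st Q (sub (Ts U σ) (over (Ts U σ) O)) t) σ t)
      exact ⟨fun x σ => a σ.1 ⟨⟨x.1, σ.2⟩, x.2⟩, funext fun σ => funext fun t => ha σ t⟩
  exact NatIso.isIso_of_isIso_app _

/-- The sections of the Godement presheaf are products of stalks. -/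
noncomputable def god : (piF fun x : X => Sx U Q x) ⟶ R U (God Q) where
  app V := AddCommGrpCat.ofHom (AddMonoidHom.mk'
    (fun (b : ∀ x : X, ∀ σ : {σ : V → I // x ∈ (⋂ k, U (σ k) : Set X)}, st Q (Ts U σ.1) ⟨x, σ.2⟩)
      (σ : V → I) => ((fun t => (b t.1 ⟨σ, t.2⟩)) : ∀ t : (Ts U σ).left, st Q (Ts U σ) t))
    (fun _ _ => rfl))
  naturality _ _ _ := rfl

lemma isIso_god : IsIso (god U Q) := by
  have : ∀ V, IsIso ((god U Q).app V) := by
    intro V
    rw [ConcreteCategory.isIso_iff_bijective]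
    constructor
    · rw [injective_iff_map_eq_zero]
      intro b hb
      funext x
      funext σ
      exact (congr_fun (congr_fun hb σ.1) ⟨x, σ.2⟩)
    · intro b
      exact ⟨fun x σ => (b : ∀ (σ : V → I) (t : (Ts U σ).left), st Q (Ts U σ) t) σ.1 ⟨x, σ.2⟩, rfl⟩
  exact NatIso.isIso_of_isIso_app _

/-- The stalkwise exactness. -/
def StEx : Prop := ∀ x : X, Ex (vt ⋙ Sx U Q x)

lemma ex_godO (h : StEx U Q) (O : Opens X) : Ex (vt ⋙ R U (QO (God Q) O)) := by
  have := isIso_godO U Q O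
  have h1 : Ex (piF fun x : O => vt ⋙ Sx U Q x.1) := ex_piF fun x => h x.1
  exact ex_of_iso (Functor.isoWhiskerLeft vt (asIso (godO U Q O))) h1

lemma ex_god (h : StEx U Q) : Ex (vt ⋙ R U (God Q)) := by
  have := isIso_god U Q
  have h1 : Ex (piF fun x : X => vt ⋙ Sx U Q x) := ex_piF fun x => h x
  exact ex_of_iso (Functor.isoWhiskerLeft vt (asIso (god U Q))) h1

end K93.ClosedRow
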