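import Groth.Agent.CohTop.K93.ClosedGod
set_option autoImplicit false
set_option backward.isDefEq.respectTransparency false
set_option backward.isDefEq.respectTransparency.types false

set_option maxHeartbeats 400000

universe u

open CategoryTheory CategoryTheory.Limits Opposite TopologicalSpace

namespace K93.ClosedRow

open K781.Desc K781.God K781.Fib K93.ExTools

variable {X : TopCat.{u}} {I : Type u} {U : I → Set X}

section Map

variable {Q Q' Q'' : (Over X)ᵒᵖ ⥤ AddCommGrpCat.{u}}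

/-- Functoriality of stalks. -/
noncomputable def sm (φ : Q ⟶ Q') (T : Over X) (t : T.left) : st Q T t ⟶ st Q' T t :=
  (TopCat.Presheaf.stalkFunctor AddCommGrpCat.{u} t).map (Functor.whiskerLeft (subF T).op φ)

lemma sm_gm (φ : Q ⟶ Q') (T : Over X) (t : T.left) (O : Opens T.left) (ht : t ∈ O) (x : Q.obj (op (sub T O))) :
    sm φ T t (gm Q T t O ht x) = gm Q' T t O ht (φ.app _ x) :=
  TopCat.Presheaf.stalkFunctor_map_germ_apply O t ht (Functor.whiskerLeft (subF T).op φ) x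

lemma sm_stRes (φ : Q ⟶ Q') {T T' : Over X} (h : T' ⟶ T) (t : T'.left) (a : st Q T (h.left t)) :
    sm φ T' t (stRes Q h t a) = stRes Q' h t (sm φ T (h.left t) a) := by
  obtain ⟨O, ht, x, rfl⟩ := exists_gm Q a
  rw [stRes_gm Q h t O ht ((Opens.map h.left).obj O) ht (fun _ hx => hx) x, sm_gm, sm_gm,
    stRes_gm Q' h t O ht ((Opens.map h.left).obj O) ht (fun _ hx => hx)]
  congr 1
  exact congr($(φ.naturality (subRes h ((Opens.map h.left).obj O) O (fun _ hx => hx)).op) x)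

variable (U) in
/-- Functoriality. -/
noncomputable def Sxm (φ : Q ⟶ Q') (x : X) : Sx U Q x ⟶ Sx U Q' x where
  app V := AddCommGrpCat.ofHom (AddMonoidHom.mk'
    (fun (a : ∀ σ : {σ : V → I // x ∈ (⋂ k, U (σ k) : Set X)}, st Q (Ts U σ.1) ⟨x, σ.2⟩)
      (σ : {σ : V → I // x ∈ (⋂ k, U (σ k) : Set X)}) => sm φ (Ts U σ.1) ⟨x, σ.2⟩ (a σ))
    (fun a b => by
      funext σ
      exact map_add _ _ _))
  naturality {V W} f := by
    refine AddCommGrpCat.hom_ext (AddMonoidHom.ext fun a => funext fun σ => ?_)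
    exact sm_stRes φ (Tmap U f σ.1) ⟨x, σ.2⟩ (a ⟨pb f σ.1, mem_pb U f σ.1 σ.2⟩)

theorem ses_Sx (φ : Q ⟶ Q') (ψ : Q' ⟶ Q'')
    (h1 : ∀ (T : Over X) (t : T.left) (a : st Q T t), sm φ T t a = 0 → a = 0)
    (h2 : ∀ (T : Over X) (a : Q.obj (op T)), ψ.app _ (φ.app _ a) = 0)
    (h3 : ∀ (T : Over X) (b : Q'.obj (op T)), ψ.app _ b = 0 → ∃ a, φ.app _ a = b)
    (h4 : ∀ (T : Over X) (c : Q''.obj (op T)), ∃ b, ψ.app _ b = c) (x : X) :
    SES (Functor.whiskerLeft vt (Sxm U φ x)) (Functor.whiskerLeft vt (Sxm U ψ x)) where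
  inj y a ha := funext fun σ => h1 _ _ _ (congr_fun ha σ)
  zero y a := funext fun σ => by
    change sm ψ _ _ (sm φ _ _ _) = 0
    obtain ⟨O, ht, x, h⟩ := exists_gm Q ((a : ∀ σ : {σ : (ob 0 ⟶ y) → I // x ∈ (⋂ k, U (σ k) : Set X)},
        st Q (Ts U σ.1) ⟨x, σ.2⟩) σ)
    rw [← h, sm_gm, sm_gm, h2, map_zero]
  ex y b hb := by
    have key : ∀ (T : Over X) (t : T.left) (b : st Q' T t), sm ψ T t b = 0 → ∃ a, sm φ T t a = b := by
      intro T t b hb
      obtain ⟨O, ht, x, rfl⟩ := exists_gm Q' b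
      rw [sm_gm] at hb
      obtain ⟨W, hW, hWO, e⟩ := gm_eq_zero Q'' _ _ hb
      have h5 : ψ.app _ (Q'.map (subMap T hWO).op x) = 0 := by
        rw [← e]
        exact congr($(ψ.naturality (subMap T hWO).op) x)
      obtain ⟨z, hz⟩ := h3 _ _ h5
      refine ⟨gm Q T t W hW z, ?_⟩
      rw [sm_gm, hz, gm_res]
    choose a ha using fun σ : {σ : (ob 0 ⟶ y) → I // x ∈ (⋂ k, U (σ k) : Set X)} =>
      key (Ts U σ.1) ⟨x, σ.2⟩ ((b : ∀ σ : {σ : (ob 0 ⟶ y) → I // x ∈ (⋂ k, U (σ k) : Set X)},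
        st Q' (Ts U σ.1) ⟨x, σ.2⟩) σ) (congr_fun hb σ)
    exact ⟨a, funext ha⟩
  surj y c := by
    have key : ∀ (T : Over X) (t : T.left) (c : st Q'' T t), ∃ b, sm ψ T t b = c := by
      intro T t c
      obtain ⟨O, ht, x, rfl⟩ := exists_gm Q'' c
      obtain ⟨z, rfl⟩ := h4 _ x
      exact ⟨gm Q' T t O ht z, sm_gm _ _ _ _ _ _⟩
    choose b hb using fun σ : {σ : (ob 0 ⟶ y) → I // x ∈ (⋂ k, U (σ k) : Set X)} =>
      key (Ts U σ.1) ⟨x, σ.2⟩ ((c : ∀ σ : {σ : (ob 0 ⟶ y) → I // x ∈ (⋂ k, U (σ k) : Set X)},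
        st Q'' (Ts U σ.1) ⟨x, σ.2⟩) σ)
    exact ⟨b, funext hb⟩

end Map

lemma toGod_stalk_inj (Q : (Over X)ᵒᵖ ⥤ AddCommGrpCat.{u}) (T : Over X) (t : T.left) (a : st Q T t)
    (h : sm (toGod Q) T t a = 0) : a = 0 := by
  obtain ⟨O, ht, x, rfl⟩ := exists_gm Q a
  rw [sm_gm] at h
  obtain ⟨W, hW, hWO, e⟩ := gm_eq_zero (God Q) _ _ h
  have h1 : (God Q).map (subMap T hWO).op ((toGod Q).app _ x) = (toGod Q).app _ (Q.map (subMap T hWO).op x) :=
    congr($(((toGod Q).naturality (subMap T hWO).op).symm) x)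
  rw [h1] at e
  have h2 : gl Q (sub T W) ⟨t, hW⟩ (Q.map (subMap T hWO).op x) = 0 := by
    rw [← evG_toGod, e, map_zero]
  rw [← gm_res Q hWO hW]
  refine stRes_injective Q T W (⟨t, hW⟩ : W) _ ?_
  refine (stRes_gm Q (subι T W) (⟨t, hW⟩ : W) W hW ⊤ trivial (fun y _ => y.2) _).trans ?_
  have h3 : subRes (subι T W) ⊤ W (fun y _ => y.2) = subι (sub T W) ⊤ := sub_hom_ext (by simp)
  rw [h3]
  exact h2

variable (P : (Over X)ᵒᵖ ⥤ AddCommGrpCat.{u})

theorem stEx_Q (hU : ∀ i, IsClosed (U i)) (hlf : LocallyFinite U) (h : StEx U P) (n : ℕ) : StEx U (Q P n) := by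
  induction n with
  | zero => exact h
  | succ n ih =>
    intro x
    have hex := fun T : Over X => (exact_Q P n).map ((evaluation _ AddCommGrpCat.{u}).obj (op T))
    refine ex_of_ses (ses_Sx (toGod (Q P n)) (Qπ P n) (toGod_stalk_inj (Q P n)) ?_ ?_ ?_ x) (ih x)
      (stEx_god (Q P n) hU hlf ih x)
    · intro T a
      have h1 : (toGod (Q P n)).app (op T) ≫ (Qπ P n).app (op T) = 0 := by
        rw [← NatTrans.comp_app, toGod_Qπ]
        rfl
      exact congr($h1 a)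
    · intro T b hb
      exact (ShortComplex.ab_exact_iff _).1 (hex T) b hb
    · intro T c
      have : Epi ((Qπ P n).app (op T)) := inferInstance
      exact (AddCommGrpCat.epi_iff_surjective _).1 this c


/-- The structure map. -/
def toX (T : Over X) : T ⟶ Over.mk (𝟙 X) := Over.homMk T.hom (by simp)

/-- Functions on the tuples of members containing `x`. -/
noncomputable def cartHom (x : X) : (mp {i // x ∈ U i}).rightOp ⋙ mapTo (st P (Over.mk (𝟙 X)) x) ⟶ vt ⋙ Sx U P x where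
  app y := AddCommGrpCat.ofHom (AddMonoidHom.mk'
    (fun (b : ((ob 0 ⟶ y) → {i // x ∈ U i}) → st P (Over.mk (𝟙 X)) x)
      (σ : {σ : (ob 0 ⟶ y) → I // x ∈ (⋂ k, U (σ k) : Set X)}) =>
      stRes P (toX (Ts U σ.1)) ⟨x, σ.2⟩ (b fun k => ⟨σ.1 k, Set.mem_iInter.1 σ.2 k⟩))
    (fun a b => by
      funext σ
      exact map_add _ _ _))
  naturality {y z} f := by
    refine AddCommGrpCat.hom_ext (AddMonoidHom.ext fun b => funext fun σ => ?_)
    exact stRes_comp P (Tmap U (vt.map f) σ.1) (toX (Ts U (pb (vt.map f) σ.1))) ⟨x, σ.2⟩ _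

lemma isIso_cartHom (hP : IsCart P) (x : X) : IsIso (cartHom (U := U) P x) := by
  have : ∀ V, IsIso ((cartHom (U := U) P x).app V) := by
    intro V
    rw [ConcreteCategory.isIso_iff_bijective]
    constructor
    · rw [injective_iff_map_eq_zero]
      intro b hb
      funext τ
      have h1 := congr_fun hb ⟨fun k => (τ k).1, Set.mem_iInter.2 fun k => (τ k).2⟩
      exact (injective_iff_map_eq_zero _).1 (hP _ _ (toX (Ts U fun k => (τ k).1))
        ⟨x, Set.mem_iInter.2 fun k => (τ k).2⟩).1 _ h1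
    · intro b
      choose a ha using fun σ : {σ : (ob 0 ⟶ V) → I // x ∈ (⋂ k, U (σ k) : Set X)} =>
        (hP _ _ (toX (Ts U σ.1)) ⟨x, σ.2⟩).2
          ((b : ∀ σ : {σ : (ob 0 ⟶ V) → I // x ∈ (⋂ k, U (σ k) : Set X)}, st P (Ts U σ.1) ⟨x, σ.2⟩) σ)
      exact ⟨fun τ => a ⟨fun k => (τ k).1, Set.mem_iInter.2 fun k => (τ k).2⟩, funext fun σ => ha σ⟩
  exact NatIso.isIso_of_isIso_app _

theorem stEx_cart (hcov : ⋃ i, U i = Set.univ) (hP : IsCart P) : StEx U P := by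
  intro x
  have hx : x ∈ ⋃ i, U i := by
    rw [hcov]
    trivial
  obtain ⟨i, hi⟩ := Set.mem_iUnion.1 hx
  obtain ⟨h1⟩ := exists_xco (J := {i // x ∈ U i}) ⟨i, hi⟩
  have := isIso_cartHom (U := U) P hP x
  exact ex_of_iso (asIso (cartHom P x)) (h1.map (mapTo (st P (Over.mk (𝟙 X)) x))).ex

/-- The rows of the Godement complex are exact. -/
theorem ex_row (hU : ∀ i, IsClosed (U i)) (hlf : LocallyFinite U) (hcov : ⋃ i, U i = Set.univ) (hP : IsCart P)
    (n : ℕ) : Ex (vt ⋙ R U (God (Q P n))) :=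
  ex_god U _ (stEx_Q P hU hlf (stEx_cart P hcov hP) n)

end K93.ClosedRow
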