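import Groth.Agent.Vancyc.H681.AbHom
import Groth.Agent.FibDesc.K781.Inj
import Mathlib.Algebra.Homology.HomologicalComplex
import Mathlib.Algebra.Homology.ShortComplex.HomologicalComplex

/-!
# Homology of a product of complexes of abelian groups
-/

set_option autoImplicit false
set_option backward.isDefEq.respectTransparency false
set_option backward.isDefEq.respectTransparency.types false

universe u v w

open CategoryTheory CategoryTheory.Limits Opposite

namespace K93.PiHom

open Groth.Agent.Vancyc.H681.AbHom

/-- The homology of a product of short complexes of abelian groups. -/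
theorem bijective_homology {ι : Type*} (S : ShortComplex AddCommGrpCat.{w}) (T : ι → ShortComplex AddCommGrpCat.{w})
    (π : ∀ i, S ⟶ T i)
    (h1 : ∀ a : ∀ i, (T i).X₁, ∃ x : S.X₁, ∀ i, (π i).τ₁ x = a i)
    (h2 : ∀ a : ∀ i, (T i).X₂, ∃ x : S.X₂, ∀ i, (π i).τ₂ x = a i)
    (h2' : ∀ x y : S.X₂, (∀ i, (π i).τ₂ x = (π i).τ₂ y) → x = y)
    (h3 : ∀ x y : S.X₃, (∀ i, (π i).τ₃ x = (π i).τ₃ y) → x = y) :
    Function.Bijective (fun (z : S.homology) (i : ι) => ShortComplex.homologyMap (π i) z) := by
  constructor
  · intro z z' hz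
    rw [← sub_eq_zero]
    obtain ⟨c, hc⟩ := (AddCommGrpCat.epi_iff_surjective S.homologyπ).1 inferInstance (z - z')
    have hz' : ∀ i, (T i).homologyπ (ShortComplex.cyclesMap (π i) c) = 0 := fun i => by
      rw [← homologyMap_homologyπ, hc, map_sub, sub_eq_zero]
      exact congr_fun hz i
    choose t ht using fun i => exists_toCycles (T i) _ (hz' i)
    obtain ⟨x, hx⟩ := h1 t
    have h4 : S.toCycles x = c := by
      apply iCycles_inj
      apply h2'
      intro i
      rw [← iCycles_cyclesMap, ← iCycles_cyclesMap, ← ht, ← hx]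
      rw [iCycles_cyclesMap, iCycles_toCycles, iCycles_toCycles]
      exact congr($((π i).comm₁₂.symm) x)
    rw [← hc, ← h4, homologyπ_toCycles]
  · intro z
    choose c hc using fun i => (AddCommGrpCat.epi_iff_surjective (T i).homologyπ).1 inferInstance (z i)
    obtain ⟨x, hx⟩ := h2 fun i => (T i).iCycles (c i)
    obtain ⟨c', hc'⟩ := exists_cycle S x (h3 _ _ fun i => by
      have h5 : (π i).τ₃ (S.g x) = (T i).g ((π i).τ₂ x) := congr($((π i).comm₂₃.symm) x)
      rw [h5, hx, g_iCycles, map_zero])
    refine ⟨S.homologyπ c', funext fun i => ?_⟩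
    change ShortComplex.homologyMap (π i) (S.homologyπ c') = z i
    rw [homologyMap_homologyπ, ← hc]
    congr 1
    apply iCycles_inj
    rw [iCycles_cyclesMap, hc', hx]

open K781.Desc

/-- The homology of a product of functors. -/
theorem nonempty_homology_piF {V : Type*} [Category* V] [Preadditive V] {ι : Type w} (H : ι → V ⥤ AddCommGrpCat.{w})
    [∀ i, (H i).Additive] [(piF H).Additive] {κ : Type*} {c : ComplexShape κ} (K : HomologicalComplex V c) (q : κ) :
    Nonempty ((((piF H).mapHomologicalComplex c).obj K).homology q ≅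
      AddCommGrpCat.of (∀ i, (((H i).mapHomologicalComplex c).obj K).homology q)) := by
  let p : ∀ i, piF H ⟶ H i := fun i =>
    { app := fun x => AddCommGrpCat.ofHom (AddMonoidHom.mk' (fun a : (∀ i, (H i).obj x) => a i) (fun _ _ => rfl))
      naturality := fun _ _ _ => rfl }
  let π : ∀ i, ((piF H).mapHomologicalComplex c).obj K ⟶ ((H i).mapHomologicalComplex c).obj K :=
    fun i => (NatTrans.mapHomologicalComplex (p i) c).app K
  have hb := bijective_homology ((((piF H).mapHomologicalComplex c).obj K).sc q)
    (fun i => (((H i).mapHomologicalComplex c).obj K).sc q)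
    (fun i => (HomologicalComplex.shortComplexFunctor _ c q).map (π i))
    (fun a => ⟨a, fun i => rfl⟩) (fun a => ⟨a, fun i => rfl⟩) (fun x y h => funext h) (fun x y h => funext h)
  let f : (((piF H).mapHomologicalComplex c).obj K).homology q ⟶
      AddCommGrpCat.of (∀ i, (((H i).mapHomologicalComplex c).obj K).homology q) :=
    AddCommGrpCat.ofHom (AddMonoidHom.mk' (fun z i => HomologicalComplex.homologyMap (π i) q z) (fun a b => by
      funext i
      exact map_add _ _ _))
  have hf : IsIso f := by
    rw [ConcreteCategory.isIso_iff_bijective]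
    exact hb
  exact ⟨asIso f⟩

end K93.PiHom
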