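import Groth.Agent.CohTop.K93.ClosedRows
import Groth.Agent.CohTop.K93.PiHom
import Groth.Agent.CohTop.K313.DescRow

/-!
# The descent spectral sequence of a locally finite closed covering
-/

set_option autoImplicit false
set_option backward.isDefEq.respectTransparency false
set_option backward.isDefEq.respectTransparency.types false

universe u

open CategoryTheory CategoryTheory.Limits Opposite TopologicalSpace ComplexShape

namespace K93.ClosedSS

open K781.Desc K781.God K781.Fib K93.ExTools K93.ClosedRow K313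

variable {X : TopCat.{u}} {I : Type u} (U : I → Set X)

/-- The cosimplicial group attached to a presheaf. -/
noncomputable def RF : ((Over X)ᵒᵖ ⥤ AddCommGrpCat.{u}) ⥤ (Dp ⥤ AddCommGrpCat.{u}) where
  obj Q := vt ⋙ R U Q
  map {Q Q'} φ := Functor.whiskerLeft vt
    { app := fun V => AddCommGrpCat.ofHom (AddMonoidHom.mk'
        (fun (a : ∀ σ : V → I, Q.obj (op (Ts U σ))) (σ : V → I) => φ.app (op (Ts U σ)) (a σ))
        (fun a b => by
          funext σ
          exact map_add _ _ _))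
      naturality := fun {V W} f => by
        refine AddCommGrpCat.hom_ext (AddMonoidHom.ext fun a => funext fun σ => ?_)
        exact congr($(φ.naturality (Tmap U f σ).op) (a (pb f σ))) }
  map_id Q := by
    ext y : 2
    refine AddCommGrpCat.hom_ext (AddMonoidHom.ext fun a => funext fun σ => ?_)
    rfl
  map_comp f g := by
    ext y : 2
    refine AddCommGrpCat.hom_ext (AddMonoidHom.ext fun a => funext fun σ => ?_)
    rfl

instance : (RF U).Additive where
  map_add {Q Q' f g} := by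
    ext y : 2
    refine AddCommGrpCat.hom_ext (AddMonoidHom.ext fun a => funext fun σ => ?_)
    rfl

variable (P : (Over X)ᵒᵖ ⥤ AddCommGrpCat.{u})

/-- The coaugmented cosimplicial complex. -/
noncomputable abbrev A : CochainComplex (Dp ⥤ AddCommGrpCat.{u}) ℤ :=
  ((RF U).mapHomologicalComplex (up ℤ)).obj (G P)

lemma isZero_A (i : ℤ) (hi : i < 0) : IsZero ((A U P).X i) := (RF U).map_isZero (G_neg P i hi)

lemma ex_of_isZero {F : Dp ⥤ AddCommGrpCat.{u}} (h : IsZero F) : Ex F := by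
  have h1 : ∀ y, Subsingleton (F.obj y) := fun y =>
    AddCommGrpCat.subsingleton_of_isZero ((F.isZero_iff).1 h y)
  exact ex_mk (fun x _ => Subsingleton.elim _ _) (fun x _ => ⟨0, Subsingleton.elim _ _⟩)
    (fun n x _ => ⟨0, Subsingleton.elim _ _⟩)

variable {U} {P} in
theorem isDesc_A (hU : ∀ i, IsClosed (U i)) (hlf : LocallyFinite U) (hcov : ⋃ i, U i = Set.univ)
    (hP : IsCart P) : IsDesc (A U P) := by
  refine isDesc_of_augExact ⟨0, isZero_A U P⟩ fun q => augExact_of_ex ?_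
  by_cases hq : 0 ≤ q
  · obtain ⟨n, rfl⟩ := Int.eq_ofNat_of_zero_le hq
    exact ex_of_iso ((RF U).mapIso (GX P n).symm) (ex_row P hU hlf hcov hP n)
  · exact ex_of_isZero (isZero_A U P q (not_le.1 hq))

/-- The columns. -/
noncomputable abbrev col (y : Dp) : ((Over X)ᵒᵖ ⥤ AddCommGrpCat.{u}) ⥤ AddCommGrpCat.{u} :=
  piF fun σ : (ob 0 ⟶ y) → I => (evaluation (Over X)ᵒᵖ AddCommGrpCat.{u}).obj (op (Ts U σ))

instance (y : Dp) : (col U y).Additive where
  map_add {Q Q' f g} := by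
    refine AddCommGrpCat.hom_ext (AddMonoidHom.ext fun a => funext fun σ => ?_)
    rfl

/-- The columns. -/
noncomputable def colIso (y : Dp) : RF U ⋙ (evaluation Dp AddCommGrpCat.{u}).obj y ≅ col U y :=
  NatIso.ofComponents (fun Q => Iso.refl _) (fun {Q Q'} f => by
    refine AddCommGrpCat.hom_ext (AddMonoidHom.ext fun a => funext fun σ => ?_)
    rfl)

theorem nonempty_col (y : Dp) (q : ℤ) : Nonempty ((DescSS.at' (A U P) y).homology q ≅
    AddCommGrpCat.of (∀ σ : (ob 0 ⟶ y) → I, (GodRes.GT (Ts U σ) P).homology q)) := by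
  obtain ⟨e⟩ := PiHom.nonempty_homology_piF
    (fun σ : (ob 0 ⟶ y) → I => (evaluation (Over X)ᵒᵖ AddCommGrpCat.{u}).obj (op (Ts U σ))) (G P) q
  have e' : (DescSS.at' (A U P) y).homology q ≅ (((col U y).mapHomologicalComplex (up ℤ)).obj (G P)).homology q :=
    (HomologicalComplex.homologyFunctor _ (up ℤ) q).mapIso
      ((NatIso.mapHomologicalComplex (colIso U y) (up ℤ)).app (G P))
  exact ⟨e' ≪≫ e⟩

/-- Products of isomorphic groups. -/
theorem nonempty_pi_iso {J J' : Type u} (e : J' ≃ J) (M : J → AddCommGrpCat.{u}) (N : J' → AddCommGrpCat.{u})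
    (h : ∀ j, Nonempty (M (e j) ≅ N j)) :
    Nonempty (AddCommGrpCat.of (∀ j, M j) ≅ AddCommGrpCat.of (∀ j, N j)) := by
  have h' := fun j => Classical.choice (h j)
  let f : (∀ j, M j) ≃+ (∀ j, N j) :=
    (({ Equiv.piCongrLeft (fun j => (M j : Type u)) e with
        map_add' := fun a b => by
          apply (Equiv.piCongrLeft (fun j => (M j : Type u)) e).symm.injective
          funext j
          simp } : (∀ j, M (e j)) ≃+ (∀ j, M j)).symm).trans
      (AddEquiv.piCongrRight fun j => (h' j).addCommGroupIsoToAddEquiv)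
  exact ⟨f.toAddCommGrpIso⟩


variable {U}

/-- Equality of intersections. -/
def tsIso {V W : Type} (σ : V → I) (τ : W → I) (h : (⋂ k, U (σ k) : Set X) = ⋂ k, U (τ k)) : Ts U σ ≅ Ts U τ :=
  Over.isoMk (TopCat.isoOfHomeo (Homeomorph.setCongr h)) rfl

lemma iInter_comp {V W : Type} (e : V ≃ W) (τ : W → I) : (⋂ k, U (τ (e k)) : Set X) = ⋂ k, U (τ k) :=
  e.surjective.iInter_comp fun k => U (τ k)

theorem nonempty_col_ob (F : CohTop.Ab X) (n q : ℕ) :
    Nonempty ((DescSS.at' (A U (K753.Cart.P F.obj)) (ob n)).homology q ≅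
      AddCommGrpCat.of (∀ σ : Fin (n + 1) → I,
        CohTop.H ((CohTop.pull (TopCat.ofHom ⟨((↑) : (⋂ k, U (σ k) : Set X) → X), continuous_subtype_val⟩ :
          TopCat.of (⋂ k, U (σ k) : Set X) ⟶ X)).obj F) q)) := by
  obtain ⟨e₁⟩ := nonempty_col U (K753.Cart.P F.obj) (ob n) q
  obtain ⟨e₂⟩ := nonempty_pi_iso (Equiv.arrowCongr (vtEquiv n) (Equiv.refl I))
    (fun σ : (ob 0 ⟶ ob n) → I => (GodRes.GT (Ts U σ) (K753.Cart.P F.obj)).homology q)
    (fun σ : Fin (n + 1) → I => AddCommGrpCat.of (CohTop.H ((CohTop.pull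
      (TopCat.ofHom ⟨((↑) : (⋂ k, U (σ k) : Set X) → X), continuous_subtype_val⟩ :
          TopCat.of (⋂ k, U (σ k) : Set X) ⟶ X)).obj F) q)) (fun σ => by
      obtain ⟨e₃⟩ := DescRow.nonempty_GT_iso (K753.Cart.P F.obj)
        (tsIso (U := U) ((Equiv.arrowCongr (vtEquiv n) (Equiv.refl I)) σ) σ
          (iInter_comp (vtEquiv n).symm σ))
      obtain ⟨e₄⟩ := CartPull.nonempty_homology_iso F (Ts U σ) q
      exact ⟨(HomologicalComplex.homologyFunctor _ (up ℤ) (q : ℤ)).mapIso e₃ ≪≫ e₄⟩)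
  exact ⟨e₁ ≪≫ e₂⟩

theorem nonempty_col_star (F : CohTop.Ab X) (q : ℕ) :
    Nonempty ((DescSS.at' (A U (K753.Cart.P F.obj)) .star).homology q ≅ AddCommGrpCat.of (CohTop.H F q)) := by
  obtain ⟨e₁⟩ := nonempty_col U (K753.Cart.P F.obj) .star q
  obtain ⟨e₂⟩ := nonempty_pi_iso (J' := PUnit.{u + 1}) ⟨fun _ i => (IsEmpty.false i).elim, fun _ => ⟨⟩,
      fun _ => rfl, fun σ => funext fun i => (IsEmpty.false i).elim⟩
    (fun σ : (ob 0 ⟶ WithInitial.star) → I => (GodRes.GT (Ts U σ) (K753.Cart.P F.obj)).homology q)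
    (fun _ => AddCommGrpCat.of (CohTop.H F q)) (fun _ => by
      obtain ⟨e₃⟩ := DescRow.nonempty_GT_iso (K753.Cart.P F.obj)
        (show Ts U (fun i : (ob 0 ⟶ WithInitial.star) => (IsEmpty.false i).elim : (ob 0 ⟶ WithInitial.star) → I) ≅
          Over.mk (𝟙 X) from Over.isoMk (TopCat.isoOfHomeo ((Homeomorph.setCongr (by
            rw [Set.iInter_eq_univ]
            exact fun i => (IsEmpty.false i).elim)).trans (Homeomorph.Set.univ X))) rfl)
      obtain ⟨e₄⟩ := CartPull.nonempty_homology_iso_id F q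
      exact ⟨(HomologicalComplex.homologyFunctor _ (up ℤ) (q : ℤ)).mapIso e₃ ≪≫ e₄⟩)
  have e₃ : AddCommGrpCat.of (∀ _ : PUnit.{u + 1}, CohTop.H F q) ≅ AddCommGrpCat.of (CohTop.H F q) :=
    AddEquiv.toAddCommGrpIso
      { Equiv.punitArrowEquiv (CohTop.H F q) with map_add' := fun _ _ => rfl }
  exact ⟨e₁ ≪≫ e₂ ≪≫ e₃⟩

theorem main (hU : ∀ i, IsClosed (U i)) (hlf : LocallyFinite U) (hcov : ⋃ i, U i = Set.univ) (F : CohTop.Ab X) :
    ∃ (E : CohomologicalSpectralSequence AddCommGrpCat.{u} 1)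
      (a : SpSeq.Abutment E (fun n : ℤ =>
        if 0 ≤ n then AddCommGrpCat.of (CohTop.H F n.toNat) else AddCommGrpCat.of PUnit.{u + 1})),
      (∀ n, a.IsFinite n) ∧ SpSeq.IsBounded E ∧
      ∀ p q : ℤ, Nonempty ((E.page 1 le_rfl).X (p, q) ≅
        (if 0 ≤ p ∧ 0 ≤ q then
          AddCommGrpCat.of (∀ σ : Fin (p.toNat + 1) → I,
            CohTop.H ((CohTop.pull (TopCat.ofHom ⟨((↑) : (⋂ k, U (σ k) : Set X) → X), continuous_subtype_val⟩ :
              TopCat.of (⋂ k, U (σ k) : Set X) ⟶ X)).obj F) q.toNat)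
         else AddCommGrpCat.of PUnit.{u + 1})) := by
  have hz : ∀ (y : Dp) (n : ℤ), n < 0 → IsZero ((DescSS.at' (A U (K753.Cart.P F.obj)) y).homology n) :=
    fun y n hn => K224.DC.isZero_homology_of_X _ n
      (((evaluation Dp AddCommGrpCat.{u}).obj y).map_isZero (isZero_A U _ n hn))
  obtain ⟨E, a, ha, hb, hE⟩ := DescSS.exists_E₁ (A U (K753.Cart.P F.obj)) (isZero_A U _)
    (isDesc_A hU hlf hcov (K753.Cart.isCart F.obj)) (fun n : ℤ =>
        if 0 ≤ n then AddCommGrpCat.of (CohTop.H F n.toNat) else AddCommGrpCat.of PUnit.{u + 1}) (fun n => by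
      split_ifs with hn
      · obtain ⟨m, rfl⟩ := Int.eq_ofNat_of_zero_le hn
        exact nonempty_col_star F m
      · exact ⟨(hz _ n (not_le.1 hn)).iso DescRow.isZero_punit⟩)
  refine ⟨E, a, ha, hb, fun p q => ?_⟩
  split_ifs with hpq
  · obtain ⟨e₁⟩ := (hE p q).1 hpq.1
    obtain ⟨p, rfl⟩ := Int.eq_ofNat_of_zero_le hpq.1
    obtain ⟨q, rfl⟩ := Int.eq_ofNat_of_zero_le hpq.2
    obtain ⟨e₂⟩ := nonempty_col_ob (U := U) F p q
    exact ⟨e₁ ≪≫ e₂⟩
  · by_cases hp : 0 ≤ p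
    · obtain ⟨e₁⟩ := (hE p q).1 hp
      have hq : q < 0 := by
        by_contra hq
        exact hpq ⟨hp, not_lt.1 hq⟩
      exact ⟨e₁ ≪≫ (hz _ q hq).iso DescRow.isZero_punit⟩
    · exact ⟨((hE p q).2 (not_le.1 hp)).iso DescRow.isZero_punit⟩

end K93.ClosedSS
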