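import Groth.Agent.FibDesc.K31.Cech

/-!
# Exactness of coaugmented cosimplicial groups: isomorphisms, products, two out of three, unions
-/

set_option autoImplicit false
set_option backward.isDefEq.respectTransparency false
set_option backward.isDefEq.respectTransparency.types false

universe u v w

open CategoryTheory CategoryTheory.Limits Opposite

namespace K93.ExTools

open K781.Desc K781.Cech

section

/-- The alternating sum of the cofaces. -/
noncomputable def D (F : Dp ⥤ AddCommGrpCat.{w}) (n : ℕ) : F.obj (ob n) ⟶ F.obj (ob (n + 1)) :=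
  dd ((rF _).obj F) n

/-- The coaugmentation. -/
noncomputable def D0 (F : Dp ⥤ AddCommGrpCat.{w}) : F.obj WithInitial.star ⟶ F.obj (ob 0) :=
  F.map (init (ob 0))

variable {F G H : Dp ⥤ AddCommGrpCat.{w}}

lemma D_natural (i : F ⟶ G) (n : ℕ) (a : F.obj (ob n)) :
    i.app (ob (n + 1)) (D F n a) = D G n (i.app (ob n) a) := by
  have h1 : dd ((rF _).obj F) n ≫ i.app (ob (n + 1)) = i.app (ob n) ≫ dd ((rF _).obj G) n := by
    rw [dd, dd, Preadditive.sum_comp, Preadditive.comp_sum]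
    refine Finset.sum_congr rfl fun j _ => ?_
    rw [Preadditive.zsmul_comp, Preadditive.comp_zsmul]
    congr 1
    exact i.naturality _
  exact congr($h1 a)

lemma D0_natural (i : F ⟶ G) (a : F.obj WithInitial.star) :
    i.app (ob 0) (D0 F a) = D0 G (i.app _ a) := by
  have h1 := i.naturality (init (ob 0))
  exact congr($h1 a)

lemma D_D0 (a : F.obj WithInitial.star) : D F 0 (D0 F a) = 0 := by
  have h1 := init_dd F
  exact congr($h1 a)

lemma D_D (n : ℕ) (a : F.obj (ob n)) : D F (n + 1) (D F n a) = 0 := by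
  have h1 := ((alt AddCommGrpCat.{w}).obj ((rF _).obj F)).d_comp_d n (n + 1) (n + 1 + 1)
  rw [alt_d, alt_d] at h1
  exact congr($h1 a)

theorem ex_mk (h0 : ∀ x : F.obj WithInitial.star, D0 F x = 0 → x = 0)
    (h1 : ∀ x : F.obj (ob 0), D F 0 x = 0 → ∃ y, D0 F y = x)
    (h2 : ∀ (n : ℕ) (x : F.obj (ob (n + 1))), D F (n + 1) x = 0 → ∃ y, D F n y = x) : Ex F :=
  ⟨h0, h1, h2⟩

lemma ex_inj (h : Ex F) (x : F.obj WithInitial.star) (hx : D0 F x = 0) : x = 0 := h.inj x hx

lemma ex_ex₀ (h : Ex F) (x : F.obj (ob 0)) (hx : D F 0 x = 0) : ∃ y, D0 F y = x := h.ex₀ x hx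

lemma ex_ex (h : Ex F) (n : ℕ) (x : F.obj (ob (n + 1))) (hx : D F (n + 1) x = 0) : ∃ y, D F n y = x :=
  h.ex n x hx

theorem ex_of_iso (e : F ≅ G) (h : Ex F) : Ex G := h.retract e.inv e.hom e.inv_hom_id

/-- A short exact sequence of coaugmented cosimplicial groups. -/
structure SES (f : F ⟶ G) (g : G ⟶ H) : Prop where
  inj : ∀ (x : Dp) (a : F.obj x), f.app x a = 0 → a = 0
  zero : ∀ (x : Dp) (a : F.obj x), g.app x (f.app x a) = 0
  ex : ∀ (x : Dp) (b : G.obj x), g.app x b = 0 → ∃ a, f.app x a = b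
  surj : ∀ (x : Dp) (c : H.obj x), ∃ b, g.app x b = c

theorem ex_of_ses {f : F ⟶ G} {g : G ⟶ H} (h : SES f g) (hF : Ex F) (hG : Ex G) : Ex H := by
  refine ex_mk (fun x hx => ?_) (fun x hx => ?_) (fun n x hx => ?_)
  · obtain ⟨b, rfl⟩ := h.surj _ x
    rw [← D0_natural] at hx
    obtain ⟨a, ha⟩ := h.ex _ _ hx
    have h1 : D F 0 a = 0 := by
      apply h.inj
      rw [D_natural, ha, D_D0]
    obtain ⟨a', rfl⟩ := ex_ex₀ hF _ h1
    have h2 : b = f.app _ a' := by
      rw [← sub_eq_zero]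
      apply ex_inj hG
      rw [map_sub, ← D0_natural, ha, sub_self]
    rw [h2, h.zero]
  · obtain ⟨b, rfl⟩ := h.surj _ x
    rw [← D_natural] at hx
    obtain ⟨a, ha⟩ := h.ex _ _ hx
    have h1 : D F 1 a = 0 := by
      apply h.inj
      rw [D_natural, ha, D_D]
    obtain ⟨a', rfl⟩ := ex_ex hF 0 _ h1
    have h2 : D G 0 (b - f.app _ a') = 0 := by
      rw [map_sub, ← D_natural, ha, sub_self]
    obtain ⟨b', hb'⟩ := ex_ex₀ hG _ h2
    refine ⟨g.app _ b', ?_⟩
    rw [← D0_natural, hb', map_sub, h.zero, sub_zero]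
  · obtain ⟨b, rfl⟩ := h.surj _ x
    rw [← D_natural] at hx
    obtain ⟨a, ha⟩ := h.ex _ _ hx
    have h1 : D F (n + 2) a = 0 := by
      apply h.inj
      rw [D_natural, ha, D_D]
    obtain ⟨a', rfl⟩ := ex_ex hF (n + 1) _ h1
    have h2 : D G (n + 1) (b - f.app _ a') = 0 := by
      rw [map_sub, ← D_natural, ha, sub_self]
    obtain ⟨b', hb'⟩ := ex_ex hG n _ h2
    refine ⟨g.app _ b', ?_⟩
    rw [← D_natural, hb', map_sub, h.zero, sub_zero]

/-- The projections of a product. -/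
def piπ {V : Type*} [Category* V] {ι : Type w} (H : ι → V ⥤ AddCommGrpCat.{w}) (i : ι) : piF H ⟶ H i where
  app x := AddCommGrpCat.ofHom (AddMonoidHom.mk' (fun a : (∀ i, (H i).obj x) => a i) (fun _ _ => rfl))
  naturality _ _ _ := rfl

theorem ex_piF {ι : Type w} {H : ι → Dp ⥤ AddCommGrpCat.{w}} (h : ∀ i, Ex (H i)) : Ex (piF H) := by
  refine ex_mk (fun x hx => ?_) (fun x hx => ?_) (fun n x hx => ?_)
  · funext i
    apply ex_inj (h i)
    exact (D0_natural (piπ H i) x).symm.trans (by rw [hx, map_zero])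
  · have h1 : ∀ i, D (H i) 0 ((piπ H i).app _ x) = 0 := fun i => by
      rw [← D_natural, hx, map_zero]
    choose y hy using fun i => ex_ex₀ (h i) _ (h1 i)
    exact ⟨y, funext fun i => (D0_natural (piπ H i) y).trans (hy i)⟩
  · have h1 : ∀ i, D (H i) (n + 1) ((piπ H i).app _ x) = 0 := fun i => by
      rw [← D_natural, hx, map_zero]
    choose y hy using fun i => ex_ex (h i) n _ (h1 i)
    exact ⟨y, funext fun i => (D_natural (piπ H i) n y).trans (hy i)⟩

/-- A directed union of exact coaugmented cosimplicial groups is exact. -/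
theorem ex_of_directed {ι : Type v} (N : ι → Dp ⥤ AddCommGrpCat.{w}) (g : ∀ i, N i ⟶ F)
    (hN : ∀ i, Ex (N i))
    (h1 : ∀ (x : Dp) (a : F.obj x), ∃ i, ∃ b : (N i).obj x, (g i).app x b = a)
    (h2 : ∀ (x : Dp) (i : ι) (b : (N i).obj x), (g i).app x b = 0 →
      ∃ (j : ι) (t : N i ⟶ N j), t ≫ g j = g i ∧ t.app x b = 0) : Ex F := by
  refine ex_mk (fun x hx => ?_) (fun x hx => ?_) (fun n x hx => ?_)
  · obtain ⟨i, b, rfl⟩ := h1 _ x
    rw [← D0_natural] at hx
    obtain ⟨j, t, ht, hb⟩ := h2 _ i _ hx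
    rw [D0_natural] at hb
    have h3 := ex_inj (hN j) _ hb
    rw [← ht, NatTrans.comp_app, ConcreteCategory.comp_apply, h3, map_zero]
  · obtain ⟨i, b, rfl⟩ := h1 _ x
    rw [← D_natural] at hx
    obtain ⟨j, t, ht, hb⟩ := h2 _ i _ hx
    rw [D_natural] at hb
    obtain ⟨c, hc⟩ := ex_ex₀ (hN j) _ hb
    refine ⟨(g j).app _ c, ?_⟩
    rw [← D0_natural, hc, ← ht]
    rfl
  · obtain ⟨i, b, rfl⟩ := h1 _ x
    rw [← D_natural] at hx
    obtain ⟨j, t, ht, hb⟩ := h2 _ i _ hx
    rw [D_natural] at hb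
    obtain ⟨c, hc⟩ := ex_ex (hN j) n _ hb
    refine ⟨(g j).app _ c, ?_⟩
    rw [← D_natural, hc, ← ht]
    rfl

end

section Maps

/-- The vertices of an object of the augmented simplex category. -/
abbrev vt : Dp ⥤ Type := coyoneda.obj (op (ob 0))

/-- The augmented simplicial set `y ↦ (vertices of y → J)`. -/
def mp (J : Type u) : Dpᵒᵖ ⥤ Type u where
  obj y := (ob 0 ⟶ y.unop) → J
  map f := TypeCat.ofHom fun σ i => σ (i ≫ f.unop)
  map_id y := by
    ext σ i
    change σ (i ≫ 𝟙 _) = σ i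
    rw [Category.comp_id]
  map_comp f g := by
    ext σ i
    change σ (i ≫ g.unop ≫ f.unop) = σ ((i ≫ g.unop) ≫ f.unop)
    rw [Category.assoc]

/-- The vertices of a simplex. -/
def vtEquiv (n : ℕ) : Fin (n + 1) ≃ ((ob 0 : Dp) ⟶ ob n) where
  toFun := vtx n
  invFun f := SimplexCategory.Hom.toOrderHom (a := SimplexCategory.mk 0) (b := SimplexCategory.mk n) f 0
  left_inv i := rfl
  right_inv f := by
    refine congrArg WithInitial.incl.map
      (?_ : SimplexCategory.const _ _ (SimplexCategory.Hom.toOrderHom (a := SimplexCategory.mk 0)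
        (b := SimplexCategory.mk n) f 0) = (f : SimplexCategory.mk 0 ⟶ SimplexCategory.mk n))
    ext i : 3
    obtain rfl : i = 0 := Subsingleton.elim (α := Fin 1) _ _
    rfl

lemma ext_vtx {n : ℕ} {J : Type u} {a b : (ob 0 ⟶ ob n) → J} (h : ∀ i, a (vtx n i) = b (vtx n i)) : a = b := by
  funext f
  obtain ⟨i, rfl⟩ := (vtEquiv n).surjective f
  exact h i

instance : IsEmpty ((ob 0 : Dp) ⟶ WithInitial.star) := inferInstanceAs (IsEmpty PEmpty)

instance (y : Dp) : Finite (ob 0 ⟶ y) := by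
  cases y with
  | of x =>
    induction x using SimplexCategory.rec with
    | _ n => exact Finite.of_equiv _ (vtEquiv n)
  | star => infer_instance

variable {J : Type u}

lemma isCech_mp : IsCech (mp J) where
  hom_ext n Z a b h := by
    refine ConcreteCategory.hom_ext _ _ fun z => ext_vtx fun i => ?_
    have h1 := congr($(h i) z (𝟙 _))
    change a z (𝟙 _ ≫ vtx n i) = b z (𝟙 _ ≫ vtx n i) at h1
    rwa [Category.id_comp] at h1
  exists_lift n Z a _ := by
    refine ⟨TypeCat.ofHom fun z f => a ((vtEquiv n).symm f) z (𝟙 _), fun i => ?_⟩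
    refine ConcreteCategory.hom_ext _ _ fun z => funext fun f => ?_
    obtain ⟨j, rfl⟩ := (vtEquiv 0).surjective f
    change a ((vtEquiv n).symm (vtx 0 j ≫ vtx n i)) z (𝟙 _) = a i z (vtx 0 j)
    have h1 : vtx 0 j = 𝟙 _ := vtx_zero j
    rw [h1, Category.id_comp]
    have h2 : (vtEquiv n).symm (vtx n i) = i := (vtEquiv n).symm_apply_apply i
    rw [h2]

theorem exists_xco (j : J) : Nonempty (XCo (mp J).rightOp) := by
  refine xco_of_section isCech_mp (TypeCat.ofHom fun _ _ => j) ?_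
  exact ConcreteCategory.hom_ext _ _ fun z => funext fun i => (IsEmpty.false i).elim

end Maps

end K93.ExTools
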